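import Mathlib

universe u

open IsLocalRing

namespace FixLocusLib

variable {A : Type u} [CommRing A]

/-- The quotient of a regular local ring by elements with independent classes in the cotangent
space is regular. -/
theorem isRegularLocalRing_quotient_of_li [IsRegularLocalRing A] {ι : Type*} [Finite ι]
    (f : ι → maximalIdeal A)
    (hli : LinearIndependent (ResidueField A) fun i => (maximalIdeal A).toCotangent (f i)) :
    IsRegularLocalRing (A ⧸ Ideal.span (Set.range fun i => (f i : A))) := by
  classical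
  have := Fintype.ofFinite ι
  set J := Ideal.span (Set.range fun i => (f i : A)) with hJ
  have hJm : J ≤ maximalIdeal A := Ideal.span_le.2 (by rintro _ ⟨i, rfl⟩; exact (f i).2)
  have hJne : J ≠ ⊤ := ne_top_of_le_ne_top (maximalIdeal.isMaximal A).ne_top hJm
  have := Ideal.Quotient.nontrivial_iff.2 hJne
  haveI : IsLocalRing (A ⧸ J) :=
    IsLocalRing.of_surjective' (Ideal.Quotient.mk J) Ideal.Quotient.mk_surjective
  set K := ResidueField A
  set V := CotangentSpace A
  set W : Submodule K V := Submodule.span K (Set.range fun i => (maximalIdeal A).toCotangent (f i))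
  obtain ⟨W', hW'⟩ := W.exists_isCompl
  let b := Module.finBasis K W'
  choose g hg using fun i => (maximalIdeal A).toCotangent_surjective (b i : V)
  have hW : Module.finrank K W = Fintype.card ι := finrank_span_eq_card hli
  have hsum := Submodule.finrank_add_eq_of_isCompl hW'
  have hspan : Submodule.span A (Set.range f ∪ Set.range g) = ⊤ := by
    rw [← CotangentSpace.span_image_eq_top_iff, eq_top_iff, ← hW'.sup_eq_top, sup_le_iff]
    constructor
    · apply Submodule.span_le.2
      rintro _ ⟨i, rfl⟩
      exact Submodule.subset_span ⟨f i, Or.inl ⟨i, rfl⟩, rfl⟩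
    · intro w hw
      have h1 : (⟨w, hw⟩ : W') ∈ Submodule.span K (Set.range b) := b.mem_span _
      have h2 := Submodule.mem_map_of_mem (f := W'.subtype) h1
      rw [Submodule.map_span] at h2
      refine Submodule.span_mono ?_ h2
      rintro _ ⟨_, ⟨i, rfl⟩, rfl⟩
      exact ⟨g i, Or.inr ⟨i, rfl⟩, hg i⟩
  let t : Set (A ⧸ J) := Set.range fun i => Ideal.Quotient.mk J (g i : A)
  have hmax : maximalIdeal (A ⧸ J) ≤ Ideal.span t := by
    intro z hz
    obtain ⟨a, rfl⟩ := Ideal.Quotient.mk_surjective z
    have ha : a ∈ maximalIdeal A := by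
      rw [mem_maximalIdeal, mem_nonunits_iff] at hz ⊢
      exact fun h => hz (h.map _)
    have h1 : (⟨a, ha⟩ : maximalIdeal A) ∈ Submodule.span A (Set.range f ∪ Set.range g) := by
      rw [hspan]; exact Submodule.mem_top
    have h2 := Submodule.mem_map_of_mem (f := (maximalIdeal A).subtype) h1
    rw [Submodule.map_span] at h2
    have h3 := Ideal.mem_map_of_mem (Ideal.Quotient.mk J) h2
    rw [Ideal.submodule_span_eq, Ideal.map_span] at h3
    refine Ideal.span_le.2 ?_ h3
    rintro _ ⟨_, ⟨w, hw, rfl⟩, rfl⟩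
    rcases hw with ⟨i, rfl⟩ | ⟨i, rfl⟩
    · show Ideal.Quotient.mk J (f i : A) ∈ Ideal.span t
      have hfi : (f i : A) ∈ J := Ideal.subset_span ⟨i, rfl⟩
      rw [Ideal.Quotient.eq_zero_iff_mem.2 hfi]
      exact zero_mem _
    · exact Ideal.subset_span ⟨i, rfl⟩
  have hge : Ideal.span t ≤ maximalIdeal (A ⧸ J) := by
    rw [Ideal.span_le]
    rintro _ ⟨i, rfl⟩
    rw [SetLike.mem_coe, mem_maximalIdeal, mem_nonunits_iff]
    intro hu
    obtain ⟨c, hc⟩ := hu.exists_left_inv
    obtain ⟨c, rfl⟩ := Ideal.Quotient.mk_surjective c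
    rw [← map_mul, ← sub_eq_zero, ← map_one (Ideal.Quotient.mk J), ← map_sub,
      Ideal.Quotient.eq_zero_iff_mem] at hc
    have : (1 : A) ∈ maximalIdeal A := by
      have := Ideal.sub_mem _ (Ideal.mul_mem_left (maximalIdeal A) c (g i).2) (hJm hc)
      simpa using this
    exact (maximalIdeal.isMaximal A).ne_top ((Ideal.eq_top_iff_one _).2 this)
  have hn : (maximalIdeal (A ⧸ J)).spanFinrank ≤ Module.finrank K W' := by
    rw [le_antisymm hmax hge]
    refine (Submodule.spanFinrank_span_le_ncard_of_finite (Set.finite_range _)).trans ?_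
    refine (Nat.card_coe_set_eq t).symm.le.trans ((Finite.card_range_le _).trans ?_)
    simp
  have hdimA := (IsRegularLocalRing.iff_finrank_cotangentSpace A).1 ‹_›
  have hK := ringKrullDim_le_ringKrullDim_quotient_add_spanFinrank J
    (by rw [IsLocalRing.ringJacobson_eq_maximalIdeal]; exact hJm)
  have hJr : J.spanFinrank ≤ Fintype.card ι := by
    refine (Submodule.spanFinrank_span_le_ncard_of_finite (Set.finite_range _)).trans ?_
    refine (Nat.card_coe_set_eq _).symm.le.trans ((Finite.card_range_le _).trans ?_)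
    simp
  apply IsRegularLocalRing.of_spanFinrank_maximalIdeal_le
  rw [← hdimA, ← hsum, hW] at hK
  obtain ⟨d, hd⟩ : ∃ d : ℕ, ringKrullDim (A ⧸ J) = d := by
    have h1 : ringKrullDim (A ⧸ J) ≠ ⊥ := ringKrullDim_ne_bot
    have h2 : ringKrullDim (A ⧸ J) ≠ ⊤ := ringKrullDim_ne_top
    cases h : ringKrullDim (A ⧸ J) with
    | bot => exact absurd h h1
    | coe x =>
      cases x with
      | top => exact absurd h h2
      | coe m => exact ⟨m, rfl⟩
  rw [hd] at hK ⊢
  norm_cast at hK ⊢
  omega

/-- The ideal of the fixed locus of a finite group of order prime to the residue characteristic. -/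
theorem isRegularLocalRing_coinvariants (k : Type u) [Field k] [Algebra k A] [IsRegularLocalRing A]
    (hres : Function.Surjective (algebraMap k (ResidueField A)))
    (G : Type u) [Group G] [Finite G] [MulSemiringAction G A] [SMulCommClass G k A]
    (hG : (Nat.card G : k) ≠ 0) :
    IsRegularLocalRing (A ⧸ Ideal.span {x : A | ∃ (g : G) (a : A), x = g • a - a}) := by
  classical
  have := Fintype.ofFinite G
  set 𝔪 := maximalIdeal A
  set S : Set A := {x : A | ∃ (g : G) (a : A), x = g • a - a}
  set J := Ideal.span S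
  have hm : ∀ (g : G), ∀ a ∈ 𝔪, g • a ∈ 𝔪 := fun g a ha => by
    rw [mem_maximalIdeal, mem_nonunits_iff] at ha ⊢
    intro hu
    exact ha (by simpa using hu.map (MulSemiringAction.toRingHom G A g⁻¹))
  have hsm : ∀ (g : G) (c : k), g • algebraMap k A c = algebraMap k A c := fun g c => by
    rw [Algebra.algebraMap_eq_smul_one, smul_comm, smul_one]
  have hSm : S ⊆ (𝔪 : Set A) := by
    rintro _ ⟨g, a, rfl⟩
    obtain ⟨c, hc⟩ := hres (residue A a)
    have h : a - algebraMap k A c ∈ 𝔪 := by
      rw [← residue_eq_zero_iff, map_sub, sub_eq_zero, ← hc]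
      rfl
    have : g • a - a = g • (a - algebraMap k A c) - (a - algebraMap k A c) := by
      rw [smul_sub, hsm]; ring
    rw [this]
    exact 𝔪.sub_mem (hm g _ h) h
  have hJm : J ≤ 𝔪 := Ideal.span_le.2 hSm
  have hpow : ∀ (h : G), ∀ a ∈ 𝔪 ^ 2, a - h • a ∈ 𝔪 * J := by
    intro h a ha
    rw [pow_two] at ha
    induction ha using Submodule.mul_induction_on' with
    | mem_mul_mem b hb c hc =>
      rw [show b * c - h • (b * c) = c * (b - h • b) + (h • b) * (c - h • c) by
        rw [smul_mul']; ring]
      refine add_mem (Ideal.mul_mem_mul hc ?_) (Ideal.mul_mem_mul (hm h b hb) ?_)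
      · rw [← neg_sub]; exact J.neg_mem (Ideal.subset_span ⟨h, b, rfl⟩)
      · rw [← neg_sub]; exact J.neg_mem (Ideal.subset_span ⟨h, c, rfl⟩)
    | add x _ y _ hx hy =>
      rw [show x + y - h • (x + y) = (x - h • x) + (y - h • y) by rw [smul_add]; ring]
      exact add_mem hx hy
  -- linear combinations of the generators
  let W : Submodule k A := Submodule.span k S
  have hsum0 : ∀ w ∈ W, ∑ h : G, h • w = 0 := by
    intro w hw
    induction hw using Submodule.span_induction with
    | mem x hx =>
      obtain ⟨g, a, rfl⟩ := hx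
      simp only [smul_sub, smul_smul, Finset.sum_sub_distrib]
      rw [sub_eq_zero]
      exact Equiv.sum_comp (Equiv.mulRight g) (fun h : G => h • a)
    | zero => simp
    | add x y _ _ hx hy => simp [smul_add, Finset.sum_add_distrib, hx, hy]
    | smul c x _ hx =>
      simp only [smul_comm _ c x]
      rw [← Finset.smul_sum, hx, smul_zero]
  have hu : IsUnit ((Fintype.card G : ℕ) : A) := by
    rw [← map_natCast (algebraMap k A), ← Nat.card_eq_fintype_card]
    exact (isUnit_iff_ne_zero.2 hG).map _
  have hproj : ∀ w ∈ W, w ∈ 𝔪 ^ 2 → w ∈ 𝔪 * J := by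
    intro w hw hw2
    have h1 : ((Fintype.card G : ℕ) : A) * w = ∑ h : G, (w - h • w) := by
      rw [Finset.sum_sub_distrib, hsum0 w hw, sub_zero, Finset.sum_const, Finset.card_univ,
        nsmul_eq_mul]
    obtain ⟨v, hv⟩ := hu.exists_left_inv
    have : v * (((Fintype.card G : ℕ) : A) * w) ∈ 𝔪 * J := by
      rw [h1]
      exact Ideal.mul_mem_left _ _ (Ideal.sum_mem _ fun h _ => hpow h w hw2)
    rwa [← mul_assoc, hv, one_mul] at this
  let D : S → CotangentSpace A := fun x => 𝔪.toCotangent ⟨x.1, hSm x.2⟩
  obtain ⟨B, hB, hspan, hli⟩ := exists_linearIndependent (ResidueField A) (Set.range D)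
  have : Finite B := hli.finite
  have : Fintype B := Fintype.ofFinite B
  choose a ha using fun i : B => hB i.2
  let f : B → 𝔪 := fun i => ⟨(a i).1, hSm (a i).2⟩
  have hf : ∀ i, 𝔪.toCotangent (f i) = (i : CotangentSpace A) := ha
  have hJeq : J = Ideal.span (Set.range fun i => (f i : A)) := by
    refine le_antisymm ?_ (Ideal.span_le.2 ?_)
    · refine Submodule.le_of_le_smul_of_le_jacobson_bot (IsNoetherian.noetherian _)
        (jacobson_eq_maximalIdeal ⊥ bot_ne_top).ge ?_
      rw [smul_eq_mul]
      refine Ideal.span_le.2 fun z hzS => ?_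
      have hz : D ⟨z, hzS⟩ ∈ Submodule.span (ResidueField A)
          (Set.range fun i => 𝔪.toCotangent (f i)) := by
        rw [show (Set.range fun i => 𝔪.toCotangent (f i)) = B by
          simp only [hf]; exact Subtype.range_coe, hspan]
        exact Submodule.subset_span ⟨_, rfl⟩
      obtain ⟨c, hc⟩ := (Submodule.mem_span_range_iff_exists_fun _).1 hz
      choose c' hc' using fun i => hres (c i)
      let z' : 𝔪 := ⟨z, hSm hzS⟩ - ∑ i, algebraMap k A (c' i) • f i
      have hz' : (z' : A) = z - ∑ i, algebraMap k A (c' i) * (f i : A) := by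
        simp [z', Algebra.smul_def]
      have hzW : (z' : A) ∈ W := by
        rw [hz']
        refine W.sub_mem (Submodule.subset_span hzS) (Submodule.sum_mem _ fun i _ => ?_)
        rw [← Algebra.smul_def]
        exact W.smul_mem _ (Submodule.subset_span (a i).2)
      have h2 : (z' : A) ∈ 𝔪 ^ 2 := by
        rw [← Ideal.toCotangent_eq_zero]
        simp only [z', map_sub, map_sum, map_smul]
        rw [show 𝔪.toCotangent ⟨z, hSm hzS⟩ = D ⟨z, hzS⟩ from rfl, ← hc, sub_eq_zero]
        refine Finset.sum_congr rfl fun i _ => ?_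
        rw [← hc' i, IsScalarTower.algebraMap_apply k A (ResidueField A), algebraMap_smul]
      refine Submodule.mem_sup.2 ⟨∑ i, algebraMap k A (c' i) * (f i : A), ?_, z',
        hproj _ hzW h2, by rw [hz']; ring⟩
      exact Submodule.sum_mem _ fun i _ => Ideal.mul_mem_left _ _ (Ideal.subset_span ⟨i, rfl⟩)
    · rintro _ ⟨i, rfl⟩
      exact Ideal.subset_span (a i).2
  rw [hJeq]
  refine isRegularLocalRing_quotient_of_li f ?_
  rw [show (fun i => 𝔪.toCotangent (f i)) = (Subtype.val : B → CotangentSpace A) from funext hf]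
  exact hli

end FixLocusLib
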